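import Groth.Prelude.Def_GLin
import Groth.Agent.L08.GITSep
import Mathlib.RingTheory.MvPolynomial.Homogeneous

/-!
# Semistability of vectors indexed by a type in any universe

The argument of S19603 with a universe polymorphic index type.
-/

set_option autoImplicit false
universe u v

namespace Groth.L14.HM
open Groth.L08 Groth.L08.GITSep TensorProduct

/-- A vector is semistable iff the origin is not in the closure of its orbit. -/
theorem isSemistableVec_iff (k : Type u) [Field k] [IsAlgClosed k]
    (A : Type u) [CommRing A] [HopfAlgebra k A] [Algebra.FiniteType k A] (hG : HopfRep.IsLinearlyReductive k A)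
    (ι : Type v) [Fintype ι] [HopfRep.Comod k A (MvPolynomial ι k)] [GLin.IsCoactAlg k A (MvPolynomial ι k)]
    (hlin : GLin.IsLinear k A ι) (v : ι → k) :
    GLin.IsSemistableVec k A v ↔
      ¬ GLin.InOrbitClosure k A (GLin.vecPt k ι v) (GLin.vecPt k ι (fun _ => (0 : k))) := by
  classical
  let R := MvPolynomial ι k
  have hlin' : ∀ i : ι, HopfRep.Comod.coact (k := k) (A := A) (MvPolynomial.X i : R) ∈
      LinearMap.range ((MvPolynomial.homogeneousSubmodule ι k 1).subtype.rTensor A) := by
    intro i
    obtain ⟨m, hm⟩ := hlin i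
    rw [hm]
    exact sum_mem fun j _ => ⟨⟨_, MvPolynomial.isHomogeneous_X k j⟩ ⊗ₜ m j, rfl⟩
  have hzero : ∀ p : R, GLin.orbitHom k A (GLin.vecPt k ι (fun _ => (0 : k))) p =
      algebraMap k A (GLin.vecPt k ι (fun _ => (0 : k)) p) := by
    intro p
    have : GLin.orbitHom k A (GLin.vecPt k ι (fun _ => (0 : k))) =
        (Algebra.ofId k A).comp (GLin.vecPt k ι (fun _ => (0 : k))) := by
      refine MvPolynomial.algHom_ext fun i => ?_
      obtain ⟨m, hm⟩ := hlin i
      simp [GLin.orbitHom, GLin.coactAlgHom_apply, hm]
    exact AlgHom.congr_fun this p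
  constructor
  · intro hss hc
    refine hss fun F hF d hd hhom => ?_
    have h := eq_of_mem_fixedPts hc (f := F) hF
    rw [← MvPolynomial.aeval_eq_eval]
    refine h.symm.trans ?_
    rw [GLin.vecPt, MvPolynomial.aeval_def, MvPolynomial.eval₂_eq]
    refine Finset.sum_eq_zero fun e he => ?_
    obtain ⟨i, hi⟩ : ∃ i, e i ≠ 0 := by
      by_contra hne
      push Not at hne
      have h0 := hhom (MvPolynomial.mem_support_iff.1 he)
      rw [show e = 0 from Finsupp.ext hne] at h0
      simp at h0
      omega
    rw [Finset.prod_eq_zero (Finsupp.mem_support_iff.2 hi) (by simp [zero_pow hi]), mul_zero]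
  · intro hc hnull
    apply hc
    intro p hp
    by_contra hp0
    let J : Ideal R := RingHom.ker (GLin.orbitHom k A (GLin.vecPt k ι (fun _ => (0 : k))))
    have hJmax : J.IsMaximal := by
      have hJ : J = RingHom.ker (GLin.vecPt k ι (fun _ => (0 : k))) := by
        ext q
        simp only [J, RingHom.mem_ker, hzero]
        exact map_eq_zero_iff _ (Bialgebra.algebraMap_injective (R := k) A)
      rw [hJ]
      exact RingHom.ker_isMaximal_of_surjective _ fun c => ⟨MvPolynomial.C c, MvPolynomial.aeval_C _ c⟩
    have hpJ : p ∉ J := fun h => hp0 (by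
      rw [RingHom.mem_ker]
      rw [RingHom.mem_ker, hzero] at h
      exact Bialgebra.algebraMap_injective (R := k) A (h.trans (map_zero _).symm))
    obtain ⟨f, hf, hfI, hfJ⟩ := exists_fixed_sep hG
      (isSubcomod_ker_orbitHom (GLin.vecPt k ι v)) (isSubcomod_ker_orbitHom (GLin.vecPt k ι (fun _ => (0 : k))))
      (hJmax.1.2 _ (lt_of_le_of_ne le_sup_right fun h => hpJ (by
        have : p ∈ RingHom.ker (GLin.orbitHom k A (GLin.vecPt k ι v)) ⊔ J := Ideal.mem_sup_left hp
        rwa [← h] at this)))
    have hv0 : GLin.vecPt k ι v f = 0 := by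
      have := congrArg (Coalgebra.counit (R := k)) (RingHom.mem_ker.1 hfI)
      rw [orbitHom_eq_cf, apply_cf, fAct_counit, map_zero] at this
      exact this
    have h0 : GLin.vecPt k ι (fun _ => (0 : k)) f = 1 := by
      have := RingHom.mem_ker.1 hfJ
      rw [hzero, map_eq_zero_iff _ (Bialgebra.algebraMap_injective (R := k) A), map_sub, map_one, sub_eq_zero] at this
      exact this.symm
    obtain ⟨α, hα⟩ := exists_isIntegral hG
    have hcomp : ∀ j, MvPolynomial.homogeneousComponent j f ∈ HopfRep.fixedPts k A R := by
      intro j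
      have hd : ∀ i, rey _ α (MvPolynomial.homogeneousComponent i f) ∈ MvPolynomial.homogeneousSubmodule ι k i :=
        fun i => rey_mem_of_isSubcomod (isSubcomod_homogeneousSubmodule hlin' i) α
          (MvPolynomial.homogeneousComponent_mem i f)
      have key : MvPolynomial.homogeneousComponent j f = rey _ α (MvPolynomial.homogeneousComponent j f) := by
        conv_lhs => rw [← hα.rey_eq hf, ← MvPolynomial.sum_homogeneousComponent f, map_sum, map_sum]
        rw [Finset.sum_eq_single j]
        · rw [MvPolynomial.homogeneousComponent_of_mem (hd j), if_pos rfl]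
        · intro i _ hi
          rw [MvPolynomial.homogeneousComponent_of_mem (hd i), if_neg (Ne.symm hi)]
        · intro hd'
          rw [MvPolynomial.homogeneousComponent_eq_zero j f (by simpa using hd'), map_zero, map_zero]
      rw [key]
      exact hα.rey_mem _
    have hvsum : GLin.vecPt k ι v f = GLin.vecPt k ι v (MvPolynomial.homogeneousComponent 0 f) := by
      conv_lhs => rw [← MvPolynomial.sum_homogeneousComponent f, map_sum]
      refine Finset.sum_eq_single 0 (fun i _ hi => ?_) (fun h => by simp at h)
      rw [GLin.vecPt, MvPolynomial.aeval_eq_eval]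
      exact hnull _ (hcomp i) i (Nat.pos_of_ne_zero hi) (MvPolynomial.homogeneousComponent_isHomogeneous i f)
    rw [hv0, MvPolynomial.homogeneousComponent_zero] at hvsum
    have hc0 : MvPolynomial.coeff 0 f = 1 := by
      rw [← h0, GLin.vecPt, MvPolynomial.aeval_def, MvPolynomial.eval₂_zero'_apply]
      simp [MvPolynomial.constantCoeff_eq]
    simp [hc0] at hvsum

end Groth.L14.HM
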