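import Groth.Agent.L14.HM.Core
import Groth.Agent.L14.HM.Semistable
import Groth.Agent.S12559
import Mathlib.RingTheory.Spectrum.Prime.Topology
import Mathlib.RingTheory.Finiteness.Cardinality
import Mathlib.RingTheory.IntegralClosure.IsIntegralClosure.Basic
import Mathlib.RingTheory.Localization.Away.Basic
import Mathlib.RingTheory.Polynomial.Basic

/-!
# Stability and semistability of forms from the numerical conditions
-/

set_option autoImplicit false
set_option linter.style.haveILetI false
set_option backward.isDefEq.respectTransparency false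

universe u

open TensorProduct MvPolynomial Groth.L14.PointSet

noncomputable section

namespace Groth.L14.HM

variable {k : Type u} [Field k] [IsAlgClosed k] {n m : ℕ}

theorem isLinear :
    letI := GLin.comodAlong ((CoordGrp.SLn.mkHom (n + 1) k).comp (CoordGrp.Mat.toGLn (n + 1) k))
      (CoordGrp.formsCoact k (n + 1) m)
    haveI := GLin.isCoactAlg_comodAlong ((CoordGrp.SLn.mkHom (n + 1) k).comp (CoordGrp.Mat.toGLn (n + 1) k))
      (CoordGrp.formsCoact k (n + 1) m) (CoordGrp.formsCoact_isCoactAlg k (n + 1) m)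
    GLin.IsLinear k (CoordGrp.SLn (n + 1) k) (CoordGrp.FormIdx (n + 1) m) := by
  intro e
  refine ⟨fun l => CoordGrp.SLn.mk (n + 1) k
    (CoordGrp.Mat.toGLn (n + 1) k (CoordGrp.formCoeff k (n + 1) m l e)), ?_⟩
  change TensorProduct.map LinearMap.id _ (CoordGrp.formsCoactAlg k (n + 1) m (X e)) = _
  rw [CoordGrp.formsCoactAlg_X, map_sum]
  rfl

theorem coeff_formB_mem {K : Type u} [Field K] (V : ValuationSubring K)
    (b : CoordGrp.FormIdx (n + 1) m → K) (hb : ∀ e, b e ∈ V) (e : Fin (n + 1) →₀ ℕ) :
    (formB b).coeff e ∈ V := by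
  classical
  rw [formB, coeff_sum]
  refine V.toSubring.sum_mem fun l _ => ?_
  rw [coeff_monomial]
  split_ifs
  · exact V.mul_mem _ _ (natCast_mem V _) (hb l)
  · exact V.zero_mem

theorem coeff_formB_lt {K : Type u} [Field K] (V : ValuationSubring K)
    (b : CoordGrp.FormIdx (n + 1) m → K) (hb : ∀ e, V.valuation (b e) < 1) (e : Fin (n + 1) →₀ ℕ) :
    V.valuation ((formB b).coeff e) < 1 := by
  classical
  rw [formB, coeff_sum]
  refine Valuation.map_sum_lt _ one_ne_zero fun l _ => ?_
  rw [coeff_monomial]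
  split_ifs
  · rw [map_mul]
    exact mul_lt_one_of_nonneg_of_lt_one_right
      ((V.valuation_le_one_iff _).2 (natCast_mem V _)) zero_le (hb l)
  · rw [map_zero]
    exact zero_lt_one

theorem range_subset {K : Type u} [Field K] [Algebra k K] (V : ValuationSubring K)
    (hk : ∀ c : k, algebraMap k K c ∈ V) (φ : CoordGrp.SLn (n + 1) k →ₐ[k] K)
    (h : ∀ i j, ptMat φ i j ∈ V) : ∀ s, φ s ∈ V := by
  let kV : k →+* V := (algebraMap k K).codRestrict V.toSubring hk
  letI : Algebra k V := kV.toAlgebra
  let MV : Matrix (Fin (n + 1)) (Fin (n + 1)) V := fun i j => ⟨_, h i j⟩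
  have hMV : MV.map (algebraMap V K) = ptMat φ := rfl
  have hdet : MV.det = 1 := by
    refine Subtype.val_injective ?_
    have := (RingHom.map_det (algebraMap V K) MV).trans (by rw [RingHom.mapMatrix_apply, hMV, det_ptMat])
    exact this
  let ι : V →ₐ[k] K := { (algebraMap V K) with commutes' := fun c => rfl }
  have hfac : ι.comp (slPt MV hdet) = φ := by
    refine CoordGrp.SLn.algHom_ext (fun i j => ?_) ?_
    · rw [AlgHom.comp_apply, slPt_X]
      rfl
    · have hD : CoordGrp.SLn.mk (n + 1) k (CoordGrp.GLn.Dinv : CoordGrp.GLn (n + 1) k) = 1 := by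
        have := congrArg (CoordGrp.SLn.mk (n + 1) k) (CoordGrp.GLn.Dinv_mul_det (n := n + 1) (k := k))
        rwa [map_mul, CoordGrp.SLn.det_eq_one, mul_one, map_one] at this
      rw [hD, map_one, map_one]
  intro s
  rw [← hfac]
  exact (slPt MV hdet s).2

theorem eq_ker_orbit_lift {A R : Type u} [CommRing A] [CommRing R] (f : R →+* A)
    (p : Ideal R) [p.IsPrime] (hp : RingHom.ker f ≤ p) :
    ∃ (K : Type u) (_ : Field K) (φ : A →+* K) (V : ValuationSubring K),
      (∀ r, φ (f r) ∈ V) ∧ ∀ r, r ∈ p ↔ V.valuation (φ (f r)) < 1 := by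
  have hp' : (⊥ : Ideal A).comap f ≤ p := hp
  obtain ⟨p0, hp0, hp0le⟩ := Ideal.exists_minimalPrimes_le hp'
  obtain ⟨P, hP, hPc⟩ := Ideal.exists_minimalPrimes_comap_eq f p0 hp0
  haveI : P.IsPrime := hP.1.1
  let K := FractionRing (A ⧸ P)
  let φ : A →+* K := (algebraMap (A ⧸ P) K).comp (Ideal.Quotient.mk P)
  have hunit : ∀ y : p.primeCompl, IsUnit ((φ.comp f) y) := fun y => by
    refine Ne.isUnit fun h => y.2 (hp0le ?_)
    rw [← hPc, Ideal.mem_comap, ← Ideal.Quotient.eq_zero_iff_mem]
    exact IsFractionRing.injective (A ⧸ P) K (h.trans (map_zero _).symm)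
  let g : Localization.AtPrime p →+* K := IsLocalization.lift hunit
  obtain ⟨V, hV, hloc⟩ := IsLocalRing.exists_factor_valuationRing g
  have hg : ∀ r, φ (f r) = g (algebraMap R _ r) := fun r => by rw [IsLocalization.lift_eq]; rfl
  refine ⟨K, inferInstance, φ, V, fun r => hg r ▸ hV _, fun r => ?_⟩
  rw [hg, show V.valuation (g (algebraMap R _ r)) < 1 ↔
      (⟨g (algebraMap R _ r), hV _⟩ : V) ∈ IsLocalRing.maximalIdeal V from (V.valuation_lt_one_iff ⟨_, hV _⟩).symm,
    ← IsLocalization.AtPrime.to_map_mem_maximal_iff (Localization.AtPrime p) p r]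
  let gV : Localization.AtPrime p →+* V := g.codRestrict V.toSubring hV
  haveI : IsLocalHom gV := hloc
  exact ⟨fun h => map_nonunit gV _ h, fun h => by
    rw [IsLocalRing.mem_maximalIdeal] at h ⊢
    exact fun hu => h (hu.map gV)⟩

variable (a : CoordGrp.FormIdx (n + 1) m → k)

/-- The forms with only trivial non-positive weights are stable. -/
theorem isStableVec_of_strict (h : Strict (CoordGrp.formPoly a)) :
    @GLin.IsStableVec k _ (CoordGrp.SLn (n + 1) k) _ _ (CoordGrp.FormIdx (n + 1) m)
      (GLin.comodAlong ((CoordGrp.SLn.mkHom (n + 1) k).comp (CoordGrp.Mat.toGLn (n + 1) k))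
        (CoordGrp.formsCoact k (n + 1) m))
      (GLin.isCoactAlg_comodAlong ((CoordGrp.SLn.mkHom (n + 1) k).comp (CoordGrp.Mat.toGLn (n + 1) k))
        (CoordGrp.formsCoact k (n + 1) m) (CoordGrp.formsCoact_isCoactAlg k (n + 1) m)) a := by
  classical
  letI := GLin.comodAlong ((CoordGrp.SLn.mkHom (n + 1) k).comp (CoordGrp.Mat.toGLn (n + 1) k))
      (CoordGrp.formsCoact k (n + 1) m)
  haveI := GLin.isCoactAlg_comodAlong ((CoordGrp.SLn.mkHom (n + 1) k).comp (CoordGrp.Mat.toGLn (n + 1) k))
      (CoordGrp.formsCoact k (n + 1) m) (CoordGrp.formsCoact_isCoactAlg k (n + 1) m)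
  let A := CoordGrp.SLn (n + 1) k
  let f := GLin.orbitHom k A (GLin.vecPt k (CoordGrp.FormIdx (n + 1) m) a)
  -- the key: integral translates come from integral points
  have key : ∀ (K : Type u) [Field K] [Algebra k K] (V : ValuationSubring K),
      (∀ c : k, algebraMap k K c ∈ V) → ∀ φ : A →ₐ[k] K, (∀ e, φ (f (X e)) ∈ V) → ∀ s, φ s ∈ V := by
    intro K _ _ V hk φ hφ
    refine range_subset V hk φ ?_
    obtain ⟨M, γ, hM, hsum, hle, -, hzero⟩ := exists_weights V hk (CoordGrp.formPoly a) (ptMat φ) (det_ptMat φ)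
      (fun e => by
        rw [← formB_act (ptMat φ) a]
        exact coeff_formB_mem V _ (fun e => by rw [← apply_orbitHom_X φ a e]; exact hφ e) e)
    exact hzero (h M hM _ γ hsum hle)
  refine ⟨isClosed_of_closure_subset ?_, ?_⟩
  · -- the orbit is closed
    rw [PrimeSpectrum.closure_range_comap]
    intro p hp
    obtain ⟨K, _, φ, V, hV, hVp⟩ := eq_ker_orbit_lift f.toRingHom p.asIdeal hp
    letI : Algebra k K := (φ.comp (algebraMap k A)).toAlgebra
    let φ' : A →ₐ[k] K := { φ with commutes' := fun c => rfl }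
    have hk : ∀ c : k, algebraMap k K c ∈ V := fun c => by
      have := hV (C c)
      change φ (f (algebraMap k _ c)) ∈ V at this
      rwa [AlgHom.commutes] at this
    have hint := key K V hk φ' (fun e => hV (X e))
    let φV : A →+* V := φ.codRestrict V.toSubring hint
    refine ⟨⟨(IsLocalRing.maximalIdeal V).comap φV, inferInstance⟩, PrimeSpectrum.ext (Ideal.ext fun r => ?_)⟩
    change φV (f r) ∈ IsLocalRing.maximalIdeal V ↔ r ∈ p.asIdeal
    rw [V.valuation_lt_one_iff, hVp]
    rfl
  · -- the stabiliser is finite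
    let I := GLin.stabIdeal k A (GLin.vecPt k (CoordGrp.FormIdx (n + 1) m) a)
    haveI : Algebra.FiniteType k (CoordGrp.GLn (n + 1) k) :=
      haveI : Algebra.FiniteType k (CoordGrp.GLb (n + 1) k) :=
        inferInstanceAs (Algebra.FiniteType k (MvPolynomial (CoordGrp.GLPoly.Idx (n + 1)) k))
      Algebra.FiniteType.of_surjective (CoordGrp.GLn.mk (n + 1) k) Ideal.Quotient.mk_surjective
    haveI : Algebra.FiniteType k A :=
      Algebra.FiniteType.of_surjective (CoordGrp.SLn.mk (n + 1) k) Ideal.Quotient.mk_surjective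
    change Module.Finite k (A ⧸ I)
    haveI : Algebra.FiniteType k (A ⧸ I) :=
      Algebra.FiniteType.of_surjective (Ideal.Quotient.mkₐ k I) Ideal.Quotient.mk_surjective
    haveI : Algebra.IsIntegral k (A ⧸ I) := by
      refine ⟨fun z => ?_⟩
      by_contra hz
      let Bz := Localization.Away z
      let w : Bz := IsLocalization.Away.invSelf z
      let g : Polynomial k →+* Bz := (Polynomial.aeval w).toRingHom
      have hzw : algebraMap (A ⧸ I) Bz z * w = 1 := IsLocalization.Away.mul_invSelf z
      have hker : RingHom.ker g ≤ Ideal.span {(Polynomial.X : Polynomial k)} := by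
        intro q hq
        rw [Ideal.mem_span_singleton, Polynomial.X_dvd_iff]
        by_contra hq0
        refine hz ?_
        have hsum : ∑ i ∈ Finset.range (q.natDegree + 1),
            algebraMap k Bz (q.coeff i) * algebraMap (A ⧸ I) Bz z ^ (q.natDegree - i) = 0 := by
          have h1 : Polynomial.aeval w q = 0 := hq
          rw [Polynomial.aeval_eq_sum_range] at h1
          have h2 : algebraMap (A ⧸ I) Bz z ^ q.natDegree *
              ∑ i ∈ Finset.range (q.natDegree + 1), q.coeff i • w ^ i = 0 := by rw [h1, mul_zero]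
          rw [Finset.mul_sum] at h2
          refine Eq.trans (Finset.sum_congr rfl fun i hi => ?_) h2
          obtain ⟨j, hj⟩ := Nat.exists_eq_add_of_le (Nat.lt_succ_iff.1 (Finset.mem_range.1 hi))
          rw [Algebra.smul_def, hj, Nat.add_sub_cancel_left, pow_add]
          calc algebraMap k Bz (q.coeff i) * algebraMap (A ⧸ I) Bz z ^ j =
              algebraMap k Bz (q.coeff i) * algebraMap (A ⧸ I) Bz z ^ j * (algebraMap (A ⧸ I) Bz z * w) ^ i := by
                rw [hzw, one_pow, mul_one]
            _ = _ := by ring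
        let S : A ⧸ I := ∑ i ∈ Finset.range (q.natDegree + 1),
          algebraMap k (A ⧸ I) (q.coeff i) * z ^ (q.natDegree - i)
        have hS : algebraMap (A ⧸ I) Bz S = 0 := by
          simp only [S, map_sum, map_mul, map_pow, ← IsScalarTower.algebraMap_apply k (A ⧸ I) Bz]
          exact hsum
        obtain ⟨⟨_, M, rfl⟩, hM⟩ := (IsLocalization.map_eq_zero_iff (Submonoid.powers z) Bz _).1 hS
        let P : Polynomial k := Polynomial.X ^ M *
          ∑ i ∈ Finset.range (q.natDegree + 1), Polynomial.C (q.coeff i) * Polynomial.X ^ (q.natDegree - i)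
        have hPz : Polynomial.aeval z P = 0 := by
          simp only [P, map_mul, map_pow, map_sum, Polynomial.aeval_X, Polynomial.aeval_C]
          exact hM
        have hc : P.coeff (q.natDegree + M) ≠ 0 := by
          simp only [P, Polynomial.coeff_X_pow_mul, Polynomial.finsetSum_coeff, Polynomial.coeff_C_mul_X_pow]
          rw [Finset.sum_eq_single 0 (fun i hi hi0 => if_neg (by
              have := Finset.mem_range.1 hi; omega)) (fun h => absurd (Finset.mem_range.2 (Nat.succ_pos _)) h),
            if_pos (Nat.sub_zero _).symm]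
          exact hq0
        exact (isAlgebraic_iff_isIntegral.1 ⟨P, fun h => hc (by rw [h, Polynomial.coeff_zero]), hPz⟩)
      haveI : (Ideal.span {(Polynomial.X : Polynomial k)}).IsPrime :=
        (Ideal.span_singleton_prime Polynomial.X_ne_zero).2 Polynomial.prime_X
      obtain ⟨K, _, φ, V, hV, hVp⟩ := eq_ker_orbit_lift g (Ideal.span {(Polynomial.X : Polynomial k)}) hker
      let ψ : A →+* K := (φ.comp (algebraMap (A ⧸ I) Bz)).comp (Ideal.Quotient.mk I)
      letI : Algebra k K := (ψ.comp (algebraMap k A)).toAlgebra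
      let ψ' : A →ₐ[k] K := { ψ with commutes' := fun c => rfl }
      have hk : ∀ c : k, algebraMap k K c ∈ V := fun c => by
        have h1 : algebraMap k K c = φ (g (Polynomial.C c)) := by
          change φ (algebraMap (A ⧸ I) Bz (algebraMap k (A ⧸ I) c)) = φ (Polynomial.aeval w (Polynomial.C c))
          rw [Polynomial.aeval_C, ← IsScalarTower.algebraMap_apply]
        rw [h1]
        exact hV _
      have hfix : ∀ e, ψ' (f (X e)) = algebraMap k K (a e) := fun e => by
        have h1 : X e - algebraMap k _ (a e) ∈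
            RingHom.ker (GLin.vecPt k (CoordGrp.FormIdx (n + 1) m) a) := by
          simp [RingHom.mem_ker, GLin.vecPt]
        have h2 : f (X e - algebraMap k _ (a e)) ∈ I := Ideal.mem_map_of_mem f h1
        rw [map_sub, AlgHom.commutes, ← Ideal.Quotient.eq] at h2
        change φ (algebraMap (A ⧸ I) Bz (Ideal.Quotient.mk I (f (X e)))) = _
        rw [h2]
        rfl
      obtain ⟨s, rfl⟩ := Ideal.Quotient.mk_surjective z
      have hz1 : ψ' s ∈ V := key K V hk ψ' (fun e => hfix e ▸ hk _) s
      have hw1 : V.valuation (φ w) < 1 := by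
        have := (hVp Polynomial.X).1 (Ideal.mem_span_singleton_self _)
        simpa [g] using this
      have : V.valuation (ψ' s) * V.valuation (φ w) = 1 := by
        rw [← map_mul]
        change V.valuation (φ (algebraMap (A ⧸ I) Bz _) * φ w) = 1
        rw [← map_mul, hzw, map_one, map_one]
      exact (mul_lt_one_of_nonneg_of_lt_one_right ((V.valuation_le_one_iff _).2 hz1) zero_le hw1).ne this
    exact Algebra.IsIntegral.finite

variable [CharZero k]

/-- The forms without negative weights are semistable. -/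
theorem isSemistableVec_of_semi (h : Semi (CoordGrp.formPoly a)) :
    @GLin.IsSemistableVec k _ (CoordGrp.SLn (n + 1) k) _ _ (CoordGrp.FormIdx (n + 1) m)
      (GLin.comodAlong ((CoordGrp.SLn.mkHom (n + 1) k).comp (CoordGrp.Mat.toGLn (n + 1) k))
        (CoordGrp.formsCoact k (n + 1) m))
      (GLin.isCoactAlg_comodAlong ((CoordGrp.SLn.mkHom (n + 1) k).comp (CoordGrp.Mat.toGLn (n + 1) k))
        (CoordGrp.formsCoact k (n + 1) m) (CoordGrp.formsCoact_isCoactAlg k (n + 1) m)) a := by
  classical
  letI := GLin.comodAlong ((CoordGrp.SLn.mkHom (n + 1) k).comp (CoordGrp.Mat.toGLn (n + 1) k))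
      (CoordGrp.formsCoact k (n + 1) m)
  haveI := GLin.isCoactAlg_comodAlong ((CoordGrp.SLn.mkHom (n + 1) k).comp (CoordGrp.Mat.toGLn (n + 1) k))
      (CoordGrp.formsCoact k (n + 1) m) (CoordGrp.formsCoact_isCoactAlg k (n + 1) m)
  haveI : Algebra.FiniteType k (CoordGrp.GLn (n + 1) k) :=
    haveI : Algebra.FiniteType k (CoordGrp.GLb (n + 1) k) :=
      inferInstanceAs (Algebra.FiniteType k (MvPolynomial (CoordGrp.GLPoly.Idx (n + 1)) k))
    Algebra.FiniteType.of_surjective (CoordGrp.GLn.mk (n + 1) k) Ideal.Quotient.mk_surjective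
  haveI : Algebra.FiniteType k (CoordGrp.SLn (n + 1) k) :=
    Algebra.FiniteType.of_surjective (CoordGrp.SLn.mk (n + 1) k) Ideal.Quotient.mk_surjective
  refine (isSemistableVec_iff k (CoordGrp.SLn (n + 1) k)
    (Groth.Agent.S12559.result k (n + 1)) (CoordGrp.FormIdx (n + 1) m) isLinear a).2 fun hclo => ?_
  let f := GLin.orbitHom k (CoordGrp.SLn (n + 1) k) (GLin.vecPt k (CoordGrp.FormIdx (n + 1) m) a)
  haveI : (RingHom.ker (GLin.vecPt k (CoordGrp.FormIdx (n + 1) m) fun _ => (0 : k))).IsPrime :=
    RingHom.ker_isPrime _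
  obtain ⟨K, _, φ, V, hV, hVp⟩ := eq_ker_orbit_lift f.toRingHom
    (RingHom.ker (GLin.vecPt k (CoordGrp.FormIdx (n + 1) m) fun _ => (0 : k))) hclo
  letI : Algebra k K := (φ.comp (algebraMap k (CoordGrp.SLn (n + 1) k))).toAlgebra
  let φ' : CoordGrp.SLn (n + 1) k →ₐ[k] K := { φ with commutes' := fun c => rfl }
  have hk : ∀ c : k, algebraMap k K c ∈ V := fun c => by
    have := hV (C c)
    change φ (f (algebraMap k _ c)) ∈ V at this
    rwa [AlgHom.commutes] at this
  obtain ⟨M, γ, hM, hsum, -, hlt, -⟩ := exists_weights V hk (CoordGrp.formPoly a) (ptMat φ') (det_ptMat φ')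
    (fun e => by
      rw [← formB_act (ptMat φ') a]
      exact coeff_formB_mem V _ (fun e => by rw [← apply_orbitHom_X φ' a e]; exact hV (X e)) e)
  refine h M hM _ γ hsum (hlt fun e => ?_)
  rw [← formB_act (ptMat φ') a]
  refine coeff_formB_lt V _ (fun e => ?_) e
  rw [← apply_orbitHom_X φ' a e]
  exact (hVp (X e)).1 (by simp [RingHom.mem_ker, GLin.vecPt])

end Groth.L14.HM
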