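import Groth.Agent.L14.PointSetUnstable
import Groth.Agent.S11796
import Mathlib.RingTheory.Valuation.ValuationSubring
import Mathlib.RingTheory.Valuation.LocalSubring
import Mathlib.RingTheory.LocalRing.LocalSubring
import Mathlib.RingTheory.Ideal.MinimalPrime.Localization
import Mathlib.Algebra.Order.Group.Units

/-!
# The numerical criterion for forms, through the Cartan decomposition

If the form `F ∘ Ξ` is integral for a matrix `Ξ` of determinant one over a valued field, the
diagonal part of `Ξ = A D B` gives weights all whose monomials in `F ∘ Ā` are non-positive.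
-/

set_option autoImplicit false
set_option linter.style.haveILetI false
set_option backward.isDefEq.respectTransparency false

universe u

open TensorProduct MvPolynomial Groth.L14.PointSet

noncomputable section

namespace Groth.L14.HM

variable {k : Type u} [Field k] {N : ℕ}

/-- The weight of a monomial. -/
def wt {G : Type*} [AddCommGroup G] (γ : Fin N → G) (e : Fin N →₀ ℕ) : G := ∑ j, e j • γ j

/-- No non-trivial weights are non-positive on a translate of the form. -/
def Strict (F : MvPolynomial (Fin N) k) : Prop :=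
  ∀ (M : Matrix (Fin N) (Fin N) k), M.det = 1 → ∀ (G : Type u) [AddCommGroup G] [LinearOrder G]
    [IsOrderedAddMonoid G] (γ : Fin N → G), ∑ j, γ j = 0 →
      (∀ e, (sub M F).coeff e ≠ 0 → wt γ e ≤ 0) → γ = 0

/-- No weights are negative on a translate of the form. -/
def Semi (F : MvPolynomial (Fin N) k) : Prop :=
  ∀ (M : Matrix (Fin N) (Fin N) k), M.det = 1 → ∀ (G : Type u) [AddCommGroup G] [LinearOrder G]
    [IsOrderedAddMonoid G] (γ : Fin N → G), ∑ j, γ j = 0 →
      ¬ ∀ e, (sub M F).coeff e ≠ 0 → wt γ e < 0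

theorem sub_diagonal {B : Type*} [CommRing B] (d : Fin N → B) (P : MvPolynomial (Fin N) B)
    (e : Fin N →₀ ℕ) : (sub (Matrix.diagonal d) P).coeff e = (∏ j, d j ^ e j) * P.coeff e := by
  classical
  induction P using MvPolynomial.induction_on' with
  | monomial f c =>
    have h : sub (Matrix.diagonal d) (monomial f c) = monomial f ((∏ j, d j ^ f j) * c) := by
      have hX : ∀ i, sub (Matrix.diagonal d) (X i) = C (d i) * X i := fun i => by
        simp [sub, Matrix.diagonal_apply, apply_ite C, ite_mul]
      rw [monomial_eq, monomial_eq, map_mul, Finsupp.prod_fintype _ _ (fun i => pow_zero _), map_prod]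
      simp only [map_pow, hX, mul_pow, Finset.prod_mul_distrib]
      simp only [map_mul, map_prod, map_pow, show sub (Matrix.diagonal d) (C c) = C c by simp [sub]]
      ring
    rw [h, coeff_monomial, coeff_monomial]
    split_ifs with hfe
    · rw [hfe]
    · rw [mul_zero]
  | add p q hp hq => simp only [map_add, coeff_add, hp, hq, mul_add]

/-- Vanishing of coefficients descends to the ground field. -/
theorem descend [IsAlgClosed k] {κ : Type u} [Field κ] [Algebra k κ] (F : MvPolynomial (Fin N) k)
    (M : Matrix (Fin N) (Fin N) κ) (hM : M.det = 1) :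
    ∃ M' : Matrix (Fin N) (Fin N) k, M'.det = 1 ∧ ∀ e, (sub M' F).coeff e ≠ 0 →
      (sub M (MvPolynomial.map (algebraMap k κ) F)).coeff e ≠ 0 := by
  classical
  let A := CoordGrp.SLn N k
  haveI : Algebra.FiniteType k (CoordGrp.GLn N k) :=
    haveI : Algebra.FiniteType k (CoordGrp.GLb N k) :=
      inferInstanceAs (Algebra.FiniteType k (MvPolynomial (CoordGrp.GLPoly.Idx N) k))
    Algebra.FiniteType.of_surjective (CoordGrp.GLn.mk N k) Ideal.Quotient.mk_surjective
  haveI : Algebra.FiniteType k A :=
    Algebra.FiniteType.of_surjective (CoordGrp.SLn.mk N k) Ideal.Quotient.mk_surjective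
  let gen : Matrix (Fin N) (Fin N) A := ptMat (AlgHom.id k A)
  let Fg := sub gen (MvPolynomial.map (algebraMap k A) F)
  let J : Ideal A := Ideal.span {a | ∃ e, (sub M (MvPolynomial.map (algebraMap k κ) F)).coeff e = 0 ∧
    a = Fg.coeff e}
  have hcomm : ∀ {B : Type u} [CommRing B] [Algebra k B] (φ : A →ₐ[k] B) (e : Fin N →₀ ℕ),
      φ (Fg.coeff e) = (sub (ptMat φ) (MvPolynomial.map (algebraMap k B) F)).coeff e := by
    intro B _ _ φ e
    have h : gen.map φ.toRingHom = ptMat φ := rfl
    have h2 := congrArg (MvPolynomial.coeff e) (map_sub_comm φ.toRingHom gen (MvPolynomial.map (algebraMap k A) F))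
    rw [coeff_map, h, MvPolynomial.map_map, φ.toRingHom_eq_coe, φ.comp_algebraMap] at h2
    exact h2
  have hJ : J ≠ ⊤ := by
    intro htop
    have hle : J ≤ RingHom.ker (slPt (k := k) M hM) := by
      rw [Ideal.span_le]
      rintro _ ⟨e, he, rfl⟩
      rw [SetLike.mem_coe, RingHom.mem_ker, hcomm,
        show ptMat (slPt (k := k) M hM) = M from Matrix.ext fun i j => slPt_X _ _ i j]
      exact he
    have h1 : (1 : A) ∈ RingHom.ker (slPt (k := k) M hM) := hle (htop ▸ Submodule.mem_top)
    rw [RingHom.mem_ker, map_one] at h1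
    exact one_ne_zero h1
  obtain ⟨g, hg⟩ := Groth.L08.GITSep.exists_point (k := k) A J hJ
  refine ⟨ptMat g, det_ptMat g, fun e he hz => he ?_⟩
  have h := hg _ (Ideal.subset_span ⟨e, hz, rfl⟩)
  rw [hcomm, Algebra.algebraMap_self, MvPolynomial.map_id] at h
  exact h

variable [IsAlgClosed k]

/-- The data of an integral translate. -/
theorem exists_weights {K : Type u} [Field K] [Algebra k K] (V : ValuationSubring K)
    (hk : ∀ c : k, algebraMap k K c ∈ V) (F : MvPolynomial (Fin N) k)
    (Ξ : Matrix (Fin N) (Fin N) K) (hΞ : Ξ.det = 1)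
    (hint : ∀ e, (sub Ξ (MvPolynomial.map (algebraMap k K) F)).coeff e ∈ V) :
    ∃ (M : Matrix (Fin N) (Fin N) k) (γ : Fin N → Additive (V.ValueGroup)ˣ), M.det = 1 ∧ ∑ j, γ j = 0 ∧
      (∀ e, (sub M F).coeff e ≠ 0 → wt γ e ≤ 0) ∧
      ((∀ e, V.valuation ((sub Ξ (MvPolynomial.map (algebraMap k K) F)).coeff e) < 1) →
        ∀ e, (sub M F).coeff e ≠ 0 → wt γ e < 0) ∧
      (γ = 0 → ∀ i j, Ξ i j ∈ V) := by
  classical
  let kV : k →+* V := (algebraMap k K).codRestrict V.toSubring hk
  obtain ⟨A, B, d, hA, hB, hΞe⟩ := Groth.Agent.S11796.result V K N Ξ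
  let ι : V →+* K := algebraMap V K
  let FV : MvPolynomial (Fin N) V := MvPolynomial.map kV F
  have hFV : MvPolynomial.map ι FV = MvPolynomial.map (algebraMap k K) F := by
    rw [MvPolynomial.map_map]
    rfl
  have hdetA : (A.map ι).det = 1 := by
    rw [← RingHom.mapMatrix_apply, ← RingHom.map_det, hA, map_one]
  have hdetB : (B.map ι).det = 1 := by
    rw [← RingHom.mapMatrix_apply, ← RingHom.map_det, hB, map_one]
  have hd : ∏ j, d j = 1 := by
    rw [hΞe, Matrix.det_mul, Matrix.det_mul, hdetA, hdetB, Matrix.det_diagonal, one_mul, mul_one] at hΞ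
    exact hΞ
  have hd0 : ∀ j, V.valuation (d j) ≠ 0 := fun j h => by
    rw [map_eq_zero] at h
    rw [Finset.prod_eq_zero (Finset.mem_univ j) h] at hd
    exact zero_ne_one hd
  let u : Fin N → (V.ValueGroup)ˣ := fun j => Units.mk0 _ (hd0 j)
  let γ : Fin N → Additive (V.ValueGroup)ˣ := fun j => Additive.ofMul (u j)
  have hwt : ∀ e : Fin N →₀ ℕ, wt γ e = Additive.ofMul (∏ j, u j ^ e j) := fun e => by
    simp [wt, γ, ofMul_prod]
  have hval : ∀ e : Fin N →₀ ℕ, ((∏ j, u j ^ e j : (V.ValueGroup)ˣ) : V.ValueGroup) =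
      V.valuation (∏ j, d j ^ e j) := fun e => by
    simp [u, map_prod]
  -- the integral form
  have hP : ∀ e, ∃ v : V, ι v = (sub Ξ (MvPolynomial.map (algebraMap k K) F)).coeff e :=
    fun e => ⟨⟨_, hint e⟩, rfl⟩
  obtain ⟨P, hPe⟩ : ∃ P : MvPolynomial (Fin N) V,
      MvPolynomial.map ι P = sub Ξ (MvPolynomial.map (algebraMap k K) F) := by
    refine ⟨∑ e ∈ (sub Ξ (MvPolynomial.map (algebraMap k K) F)).support, monomial e ⟨_, hint e⟩, ?_⟩
    conv_rhs => rw [as_sum (sub Ξ (MvPolynomial.map (algebraMap k K) F))]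
    simp only [map_sum, map_monomial]
    rfl
  let Q : MvPolynomial (Fin N) V := sub B.adjugate P
  have hQ : MvPolynomial.map ι Q = sub (Matrix.diagonal d) (MvPolynomial.map ι (sub A FV)) := by
    rw [map_sub_comm ι A, hFV, map_sub_comm ι B.adjugate, hPe, PointSet.sub_sub, PointSet.sub_sub, hΞe, mul_assoc,
      mul_assoc, ← Matrix.map_mul, Matrix.mul_adjugate, hB, one_smul,
      Matrix.map_one _ (map_zero ι) (map_one ι), mul_one]
  -- reduction
  let res : V →+* IsLocalRing.ResidueField V := IsLocalRing.residue V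
  letI : Algebra k (IsLocalRing.ResidueField V) := (res.comp kV).toAlgebra
  have hAres : (A.map res).det = 1 := by
    rw [← RingHom.mapMatrix_apply, ← RingHom.map_det, hA, map_one]
  obtain ⟨M, hM, hMc⟩ := descend F (A.map res) hAres
  have hunit : ∀ e, (sub M F).coeff e ≠ 0 → V.valuation (((sub A FV).coeff e : V) : K) = 1 := by
    intro e he
    have h1 := hMc e he
    rw [show MvPolynomial.map (algebraMap k (IsLocalRing.ResidueField V)) F = MvPolynomial.map res FV from
      (MvPolynomial.map_map kV res F).symm, ← map_sub_comm res A, coeff_map] at h1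
    exact (V.valuation_eq_one_iff _).1 (by
      by_contra hu
      exact h1 ((IsLocalRing.residue_eq_zero_iff _).2 ((IsLocalRing.mem_maximalIdeal _).2 hu)))
  have hcoef : ∀ e, V.valuation ((Q.coeff e : V) : K) =
      V.valuation (∏ j, d j ^ e j) * V.valuation (((sub A FV).coeff e : V) : K) := by
    intro e
    have h1 := congrArg (fun R => V.valuation (MvPolynomial.coeff e R)) hQ
    simp only [sub_diagonal, coeff_map, map_mul] at h1
    exact h1
  refine ⟨M, γ, hM, ?_, fun e he => ?_, fun hlt e he => ?_, fun hγ => ?_⟩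
  · have : ∏ j, u j = 1 := Units.ext (by simp [u, ← map_prod, hd])
    simp [γ, ← ofMul_prod, this]
  · have h1 := hcoef e
    rw [hunit e he, mul_one, ← hval] at h1
    rw [hwt]
    refine (?_ : ∏ j, u j ^ e j ≤ 1)
    rw [← Units.val_le_val, Units.val_one, ← h1]
    exact V.valuation_le_one _
  · have hPmax : MvPolynomial.map res P = 0 := by
      ext e'
      rw [coeff_map, coeff_zero, IsLocalRing.residue_eq_zero_iff, V.valuation_lt_one_iff]
      have h0 := hlt e'
      rw [← hPe, coeff_map] at h0
      exact h0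
    have hQmax : MvPolynomial.map res Q = 0 := by rw [map_sub_comm, hPmax, map_zero]
    have hQe : V.valuation ((Q.coeff e : V) : K) < 1 := by
      rw [← V.valuation_lt_one_iff, ← IsLocalRing.residue_eq_zero_iff]
      have := congrArg (MvPolynomial.coeff e) hQmax
      rwa [coeff_map, coeff_zero] at this
    rw [hcoef, hunit e he, mul_one, ← hval] at hQe
    rw [hwt]
    refine (?_ : ∏ j, u j ^ e j < 1)
    rw [← Units.val_lt_val, Units.val_one]
    exact hQe
  · intro i j
    have hdV : ∀ t, d t ∈ V := fun t => V.mem_of_valuation_le_one _ (le_of_eq (by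
      have := congrFun hγ t
      exact congrArg Units.val (show u t = 1 from this)))
    rw [hΞe, Matrix.mul_apply]
    refine V.toSubring.sum_mem fun l _ => V.mul_mem _ _ ?_ (B l j).2
    rw [Matrix.mul_diagonal]
    exact V.mul_mem _ _ (A i l).2 (hdV l)

end Groth.L14.HM
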