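import Groth.Agent.L14.HM.Core
import Mathlib.LinearAlgebra.Matrix.Permutation
import Mathlib.Data.Fin.Tuple.Sort

/-!
# Reordering the coordinates
-/

set_option autoImplicit false
set_option linter.style.haveILetI false
set_option backward.isDefEq.respectTransparency false

universe u

open MvPolynomial Groth.L14.PointSet

noncomputable section

namespace Groth.L14.HM

variable {k : Type u} [Field k] {n : ℕ}

theorem wt_mapDomain {G : Type*} [AddCommGroup G] (γ : Fin (n + 1) → G) (σ : Equiv.Perm (Fin (n + 1)))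
    (e : Fin (n + 1) →₀ ℕ) : wt γ (e.mapDomain σ) = wt (γ ∘ σ) e := by
  rw [wt, wt, ← Equiv.sum_comp σ]
  refine Finset.sum_congr rfl fun i _ => ?_
  rw [Finsupp.mapDomain_apply σ.injective]
  rfl

/-- Coordinates may be permuted by a matrix of determinant one. -/
theorem exists_perm (M : Matrix (Fin (n + 1)) (Fin (n + 1)) k) (hM : M.det = 1)
    (σ : Equiv.Perm (Fin (n + 1))) :
    ∃ M' : Matrix (Fin (n + 1)) (Fin (n + 1)) k, M'.det = 1 ∧ ∀ (P : MvPolynomial (Fin (n + 1)) k) e,
      (sub M' P).coeff e ≠ 0 ↔ (sub M P).coeff (e.mapDomain σ) ≠ 0 := by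
  classical
  let τ : Equiv.Perm (Fin (n + 1)) := σ⁻¹
  let sgn : k := ((Equiv.Perm.sign τ : ℤ) : k)
  have hsgn : sgn * sgn = 1 := by
    simp only [sgn, ← Int.cast_mul, ← Units.val_mul, Int.units_mul_self, Units.val_one, Int.cast_one]
  let c : Fin (n + 1) → k := fun i => if i = 0 then sgn else 1
  have hc : ∀ i, c i ≠ 0 := by
    intro i
    simp only [c]
    split_ifs
    · intro h
      rw [h, zero_mul] at hsgn
      exact zero_ne_one hsgn
    · exact one_ne_zero
  have hsub : ∀ P : MvPolynomial (Fin (n + 1)) k, sub (τ.permMatrix k) P = rename τ P := by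
    have : sub (τ.permMatrix k) = rename τ := by
      refine MvPolynomial.algHom_ext fun i => ?_
      simp [sub, Equiv.Perm.permMatrix, PEquiv.toMatrix_apply, apply_ite C, ite_mul]
    exact fun P => DFunLike.congr_fun this P
  refine ⟨M * τ.permMatrix k * Matrix.diagonal c, ?_, fun P e => ?_⟩
  · rw [Matrix.det_mul, Matrix.det_mul, hM, one_mul, Matrix.det_permutation, Matrix.det_diagonal,
      Fin.prod_univ_succ]
    simp only [c, Fin.succ_ne_zero, if_false, Finset.prod_const_one, mul_one, if_true]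
    exact hsgn
  · rw [← PointSet.sub_sub, ← PointSet.sub_sub, sub_diagonal, hsub, mul_ne_zero_iff]
    have he : e = (e.mapDomain σ).mapDomain τ := by
      rw [← Finsupp.mapDomain_comp]
      simp [τ, Function.comp_def]
      exact Finsupp.mapDomain_id.symm
    conv_lhs => rw [he]
    rw [coeff_rename_mapDomain _ τ.injective]
    exact ⟨fun h => h.2, fun h => ⟨Finset.prod_ne_zero_iff.2 fun i _ => pow_ne_zero _ (hc i), h⟩⟩

/-- A failure of the numerical condition can be read in sorted coordinates. -/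
theorem exists_sorted {F : MvPolynomial (Fin (n + 1)) k} (h : ¬ Strict F) :
    ∃ (M : Matrix (Fin (n + 1)) (Fin (n + 1)) k) (G : Type u) (_ : AddCommGroup G) (_ : LinearOrder G)
      (_ : IsOrderedAddMonoid G) (g : Fin (n + 1) → G), M.det = 1 ∧ Antitone g ∧ ∑ j, g j = 0 ∧ g ≠ 0 ∧
        ∀ e, (sub M F).coeff e ≠ 0 → wt g e ≤ 0 := by
  classical
  simp only [Strict, not_forall] at h
  obtain ⟨M, hM, G, i1, i2, i3, γ, hsum, hle, hne⟩ := h
  let σ : Equiv.Perm (Fin (n + 1)) := Fin.revPerm.trans (Tuple.sort γ)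
  obtain ⟨M', hM', hcoef⟩ := exists_perm M hM σ
  refine ⟨M', G, i1, i2, i3, γ ∘ σ, hM', ?_, ?_, ?_, fun e he => ?_⟩
  · intro i j hij
    exact Tuple.monotone_sort γ (Fin.rev_le_rev.2 hij)
  · exact (Equiv.sum_comp σ γ).trans hsum
  · intro h0
    refine hne (funext fun i => ?_)
    have := congrFun h0 (σ.symm i)
    simpa using this
  · rw [← wt_mapDomain]
    exact hle _ ((hcoef _ _).1 he)

end Groth.L14.HM
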