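import Groth.Agent.L14.HM.Perm

/-!
# Failures of the weak condition in sorted coordinates
-/

set_option autoImplicit false
set_option backward.isDefEq.respectTransparency false

universe u

open MvPolynomial Groth.L14.PointSet

noncomputable section

namespace Groth.L14.HM

variable {k : Type u} [Field k] {n : ℕ}

/-- A failure of the weak numerical condition can be read in sorted coordinates. -/
theorem exists_sorted_semi {F : MvPolynomial (Fin (n + 1)) k} (h : ¬ Semi F) :
    ∃ (M : Matrix (Fin (n + 1)) (Fin (n + 1)) k) (G : Type u) (_ : AddCommGroup G) (_ : LinearOrder G)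
      (_ : IsOrderedAddMonoid G) (g : Fin (n + 1) → G), M.det = 1 ∧ Antitone g ∧ ∑ j, g j = 0 ∧
        ∀ e, (sub M F).coeff e ≠ 0 → wt g e < 0 := by
  classical
  simp only [Semi, not_forall] at h
  obtain ⟨M, hM, G, i1, i2, i3, γ, hsum, hle⟩ := h
  let σ : Equiv.Perm (Fin (n + 1)) := Fin.revPerm.trans (Tuple.sort γ)
  obtain ⟨M', hM', hcoef⟩ := exists_perm M hM σ
  refine ⟨M', G, i1, i2, i3, γ ∘ σ, hM', ?_, ?_, fun e he => ?_⟩
  · intro i j hij
    exact Tuple.monotone_sort γ (Fin.rev_le_rev.2 hij)
  · exact (Equiv.sum_comp σ γ).trans hsum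
  · rw [← wt_mapDomain]
    exact not_not.1 fun hn => hle ⟨_, (hcoef _ _).1 he, hn⟩

end Groth.L14.HM
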